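import Cfsg.Agent.STD1.Ctx
import Cfsg.Agent.CO1.Co1Top
import Cfsg.Agent.H97.GolayMod

/-!
The double cover of `Co1` as a standard subgroup whose centraliser has cyclic Sylow 2-subgroups.
-/

set_option autoImplicit false

namespace Cfsg.Agent.STD1

open Subgroup H14 H15 H97 CO1
open scoped Pointwise

theorem conj_of_card {c d : Finset GolayPt} (hc : IsCw c) (hd : IsCw d) (e : c.card = d.card)
    (h : c.card = 8 ∨ c.card = 12 ∨ c.card = 16) : IsConj (signC c hc) (signC d hd) := by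
  have key : (∃ σ ∈ M24, σ • c = d) → IsConj (signC c hc) (signC d hd) := by
    rintro ⟨σ, hσ, rfl⟩
    exact isConj_iff.2 ⟨permC ⟨σ, hσ⟩, permC_conj_signC _ c hc⟩
  rcases h with h | h | h
  · exact key (m24_octad_transitive ⟨hc, h⟩ ⟨hd, e ▸ h⟩)
  · exact key (m24_dodecad_transitive ⟨hc, h⟩ ⟨hd, e ▸ h⟩)
  · obtain ⟨σ, hσ, e⟩ := m24_octad_transitive (o := cᶜ) (o' := dᶜ)
      ⟨hc.compl, by rw [Finset.card_compl, card_pt, h]⟩
      ⟨hd.compl, by rw [Finset.card_compl, card_pt, ← e, h]⟩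
    exact key ⟨σ, hσ, compl_injective ((smul_compl' σ c).symm.trans e)⟩

theorem exists_type {y : Co0} (h2 : y * y = 1) (h1 : y ≠ 1) (hn : y ≠ negC) :
    ∃ (c : Finset GolayPt) (hc : IsCw c), (c.card = 8 ∨ c.card = 12 ∨ c.card = 16) ∧
      ∃ k, k * y * k⁻¹ = signC c hc := by
  obtain ⟨c, hc, h⟩ := H26.CoInv.isConj_signC h2
  refine ⟨c, hc, ?_, isConj_iff.1 h⟩
  rcases hc.card_cases with e | e | e | e | e
  · obtain rfl := Finset.card_eq_zero.1 e
    exact absurd (isConj_one_right.1 (signC_empty ▸ h.symm)) h1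
  · exact Or.inl e
  · exact Or.inr (Or.inl e)
  · exact Or.inr (Or.inr e)
  · obtain rfl := (Finset.card_eq_iff_eq_univ c).1 (e.trans card_pt.symm)
    obtain ⟨k, hk⟩ := isConj_iff.1 h.symm
    exact absurd (by rw [← hk, mul_inv_eq_iff_eq_mul]; exact negC_comm k) hn

theorem mem_signG_of_comm {g : Co0} (hg : g ∈ monoN) (h : ∀ e ∈ signG, g * e = e * g) :
    g ∈ signG := by
  obtain ⟨σ, c, hc, rfl⟩ := hg
  have h1 : ∀ d, IsCw d → (σ : Equiv.Perm GolayPt) • d = d := fun d hd => by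
    have := h _ (signC_mem_signG d hd)
    rw [← mul_assoc, signG_comm (signC_mem_signG d hd) (signC_mem_signG c hc), mul_assoc,
      mul_assoc, mul_right_inj, ← mul_inv_eq_iff_eq_mul, permC_conj_signC] at this
    exact signC_inj this
  have h2 : ∀ i j : GolayPt, (∀ m ∈ [13062145, 4845570, 13938692, 7221256, 10170384, 11952160,
      15515712, 2019456, 4038912, 8077824, 11654144, 14919680], enc m = m →
        (i ∈ bits m ↔ j ∈ bits m)) → i = j := by decide +kernel
  have h3 : σ = 1 := Subtype.ext (Equiv.ext fun i => h2 _ _ fun m _ hm => by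
    conv_lhs => rw [← h1 _ (isCw_bits hm), mem_perm_smul, Equiv.symm_apply_apply]
    rfl)
  rw [h3, permC_one, mul_one]
  exact signC_mem_signG c hc

variable {G : Type*} [Group G] {n : ℕ} {φ ψ : Co0 →* G}

theorem comm_of_dec (h : Ctx negC n φ) {a b : Co0} {k : G} (hk : InK φ k)
    (e : φ a * k * φ b = φ b * (φ a * k)) : a * b = b * a := h.inj (by
  rw [mul_assoc, hk, ← mul_assoc, ← mul_assoc] at e
  simpa using mul_right_cancel e)

/-- the pointwise stabiliser of the vectors fixed by `tt` -/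
def WW : Subgroup Co0 where
  carrier := {m | ∀ v : leechLattice, tt • v = v → m • v = v}
  one_mem' _ _ := one_smul _ _
  mul_mem' ha hb v hv := by rw [mul_smul, hb v hv, ha v hv]
  inv_mem' ha v hv := inv_smul_eq_iff.2 (ha v hv).symm

theorem not_sixteen_a (h : Ctx negC n φ) (h' : Ctx negC n ψ) (e1 : ψ negC = φ tt) {e : Co0}
    (e2 : ψ e = φ negC) (e3 : prC e = prC tt) : False := by
  have c1 : IsCw (bits 6889680) ∧ bits 6889680 ⊆ XX := by decide +kernel
  have cW : ∀ g, g * φ negC = φ negC * g → g * φ tt = φ tt * g → ∀ w ∈ WW.map φ,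
      g * w * g⁻¹ ∈ WW.map φ := by
    rintro g h1 h2 _ ⟨w, hw, rfl⟩
    obtain ⟨a, k, hk, rfl⟩ := h.dec g h1
    refine ⟨a * w * a⁻¹, fun v hv => ?_, ?_⟩
    · rw [mul_smul, mul_smul, hw, smul_inv_smul]
      rw [eq_inv_smul_iff, ← mul_smul, ← mul_smul, comm_of_dec h hk h2, mul_inv_cancel_right, hv]
    · rw [mul_inv_rev, mul_assoc (φ a), hk w]
      simp [mul_assoc]
  have ee : e = tt ∨ e = negC * tt := co1_eq_iff.1 e3.symm
  have ce : ∀ b, b * tt = tt * b → b * e = e * b := fun b hb => by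
    rcases ee with rfl | rfl
    exacts [hb, by rw [← mul_assoc, negC_comm, mul_assoc, hb, mul_assoc]]
  have cN : ∀ b, b * tt = tt * b → ∀ w ∈ WW.map φ, ψ b * w * (ψ b)⁻¹ ∈ WW.map φ := fun b hb =>
    cW _ (by rw [← e2, ← map_mul, ce b hb, map_mul]) (by rw [← e1, ← map_mul, negC_comm, map_mul])
  have uW : ψ negC ∈ WW.map φ := ⟨tt, fun _ hv => hv, e1.symm⟩
  have nz : ∀ b, ψ b ∈ WW.map φ → prC b ≠ prC tt := fun b hb e4 => by
    obtain ⟨w, hw, e5⟩ : ψ e ∈ WW.map φ := by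
      rcases co1_eq_iff.1 (e4.trans e3.symm) with rfl | rfl
      exacts [hb, by rw [map_mul]; exact mul_mem uW hb]
    obtain rfl := h.inj (e5.trans e2)
    have := congrArg (fun v : leechLattice => (v : Vec) none) (hw _ tt_e8)
    simp [negC_smul, e8_val] at this
  have wW : φ (signC _ c1.1) ∈ WW.map φ := ⟨_, fun _ hv => QQ_fix (signC_mem_QQ c1.1 c1.2) hv, rfl⟩
  obtain ⟨a, k, hk, e4⟩ := h'.dec (φ (signC _ c1.1)) (by
    rw [e1, ← map_mul, signG_comm (signC_mem_signG _ _) (signC_mem_signG _ _), map_mul])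
  have ae : prC a * prC tt = prC tt * prC a := by
    rw [← e3, ← map_mul, comm_of_dec h' hk (b := e) (by
      rw [← e4, e2, ← map_mul, negC_comm, map_mul]), map_mul]
  have ha := QQ1_lx.large (prC a) (by
    rintro _ ⟨b, hb, rfl⟩
    have bt := mem_centralizer_singleton_iff.1 (QQ_le hb)
    have m1 : ψ (a * b * a⁻¹ * b⁻¹) ∈ WW.map φ := by
      have := mul_mem wW (cN b bt _ (inv_mem wW))
      rw [e4, mul_inv_rev, mul_assoc (ψ a), ← mul_assoc (ψ b), mul_assoc (ψ b * k⁻¹),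
        ← mul_assoc k, ← mul_assoc k, hk b] at this
      simpa [mul_assoc] using this
    have m2 : prC (a * b * a⁻¹ * b⁻¹) ∈ QQ1 := by
      simp only [map_mul, map_inv]
      exact mul_mem (QQ1_lx.norm _ ae _ ⟨b, hb, rfl⟩) (inv_mem ⟨b, hb, rfl⟩)
    by_contra hne
    obtain ⟨_, ⟨q, hq, rfl⟩, e5⟩ := QQ1_lx.exists_conj m2 (fun e5 => hne (by
      simpa only [map_mul, map_inv, mul_inv_eq_iff_eq_mul, one_mul] using e5)) (nz _ m1)
    refine nz (q * (a * b * a⁻¹ * b⁻¹) * q⁻¹ * (a * b * a⁻¹ * b⁻¹)⁻¹) ?_ ?_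
    · rw [map_mul, map_mul, map_mul, map_inv, map_inv]
      exact mul_mem (cN q (mem_centralizer_singleton_iff.1 (QQ_le hq)) _ m1) (inv_mem m1)
    · rw [map_mul, map_mul, map_mul, map_inv, map_inv, mul_inv_eq_iff_eq_mul]
      exact e5)
  have T : ∀ x, (prC x = 1 ∨ prC x = prC tt) → ∃ (c : Finset GolayPt) (hc : IsCw c),
      c ∈ [∅, XX, Finset.univ, symmDiff Finset.univ XX] ∧ ψ x = φ (signC c hc) := by
    have t1 : φ tt * φ negC = φ (signC _ (isCw_univ.symmDiff XX_cw)) := by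
      rw [← map_mul, negC_comm, negC, signC_mul]
    rintro x (hx | hx)
    · rcases ct_pr_eq_one.1 hx with rfl | rfl
      · exact ⟨_, isCw_empty, by simp, by simp [signC_empty]⟩
      · exact ⟨_, XX_cw, by simp, e1⟩
    · rcases co1_eq_iff.1 (e3.trans hx.symm) with rfl | rfl
      · exact ⟨_, isCw_univ, by simp, e2⟩
      · exact ⟨_, isCw_univ.symmDiff XX_cw, by simp, by rw [map_mul, e1, e2, t1]⟩
  obtain ⟨c, hc, h1, h2⟩ := T a ha
  have e5 : k = φ (signC c hc * signC _ c1.1) := by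
    rw [map_mul, e4, h2, ← mul_assoc, ← map_mul, signC_sq, map_one, one_mul]
  have h3 : ∀ c ∈ [∅, XX, Finset.univ, symmDiff Finset.univ XX],
      symmDiff c (bits 6889680) ≠ ∅ ∧ symmDiff c (bits 6889680) ≠ XX := by
    simp only [List.forall_mem_cons, List.not_mem_nil, false_imp_iff, implies_true, and_true]
    decide +kernel
  rw [signC_mul] at e5
  rcases h'.inv k hk (by rw [e5, ← map_mul, signC_sq, map_one]) with e6 | e6
  · exact (h3 c h1).1 (signC_inj (h.inj (by rw [← e5, e6, signC_empty, map_one])))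
  · exact (h3 c h1).2 (signC_inj (h.inj (by rw [← e5, e6, e1])))

theorem not_sixteen_b (h : Ctx negC n φ) (h' : Ctx negC n ψ) (e1 : ψ negC = φ tt)
    {d : Finset GolayPt} {hd : IsCw d} (h12 : d.card = 12) (e2 : ψ (signC d hd) = φ negC) :
    False := by
  have := finite_Co0
  obtain ⟨y, oy, hy⟩ := exists_eleven hd h12
  have y11 : y ^ 11 = 1 := oy ▸ pow_orderOf_eq_one y
  have yK : InK φ (ψ y) := by
    obtain ⟨a, k, hk, e⟩ := h.dec (ψ y) (by rw [← e2, ← map_mul, hy, map_mul])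
    have a1 := comm_of_dec h hk (b := tt) (by rw [← e, ← e1, ← map_mul, negC_comm, map_mul])
    have a2 : φ (a ^ 11) = (k ^ 11)⁻¹ := by
      rw [eq_inv_iff_mul_eq_one, map_pow, ← Commute.mul_pow (hk a).symm, ← e, ← map_pow, y11, map_one]
    have a3 : prC a ^ 11 = 1 := by
      rw [← map_pow]
      exact ct_pr_eq_one.2 (h.of_inK fun b => by
        rw [a2]; exact (Commute.inv_left (hk.pow 11 b)).eq)
    have a4 : prC a ^ 89181388800 = 1 := by
      rw [← card_cen_co1]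
      exact orderOf_dvd_iff_pow_eq_one.1 (orderOf_dvd_natCard _
        (mem_centralizer_singleton_iff.2 (by rw [← map_mul, a1, map_mul])))
    have a5 : a = 1 ∨ a = negC := ct_pr_eq_one.1 (by
      have := pow_gcd_eq_one.2 ⟨a3, a4⟩
      rwa [show Nat.gcd 11 89181388800 = 1 by norm_num, pow_one] at this)
    intro b
    rw [e, mul_assoc, hk, ← mul_assoc, ← map_mul, (h.cen a).2 a5, map_mul, mul_assoc]
  have ym : y ∈ monoN := mem_monoN_of_dodecad hd h12 (by rw [← map_mul, hy, map_mul])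
  have key : ∀ e ∈ signG, y * e * y⁻¹ = e ∨ y * e * y⁻¹ = signC d hd * e := fun e he => by
    obtain ⟨a, k, hk, e3⟩ := h.dec (ψ e) (by
      rw [← e2, ← map_mul, signG_comm he (signC_mem_signG _ _), map_mul])
    have e4 : ψ (y * e * y⁻¹ * e⁻¹) = φ a * (ψ y * k * (ψ y)⁻¹ * k⁻¹) * (φ a)⁻¹ := by
      simp only [map_mul, map_inv, e3, mul_inv_rev, ← mul_assoc, yK a]
    have k1 : InK φ (ψ y * k * (ψ y)⁻¹ * k⁻¹) := fun b =>
      (((Commute.mul_left (yK b) (hk b)).mul_left (Commute.inv_left (yK b))).mul_left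
        (Commute.inv_left (hk b))).eq
    rw [← k1 a, mul_inv_cancel_right] at e4
    rcases h.inv _ (e4 ▸ k1) (by
      rw [← map_mul, signG_sq (mul_mem (conj_mem_signG ym he) (inv_mem he)), map_one]) with e | e
    · exact Or.inl (mul_inv_eq_one.1 (h'.inj (e.trans (map_one ψ).symm)))
    · exact Or.inr (mul_inv_eq_iff_eq_mul.1 (h'.inj (e.trans e2.symm)))
  have y2 := signG_sq (mem_signG_of_comm (mul_mem ym ym) fun e he => by
    rw [← mul_inv_eq_iff_eq_mul, show y * y * e * (y * y)⁻¹ = y * (y * e * y⁻¹) * y⁻¹ by group]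
    rcases key e he with e3 | e3
    · rw [e3, e3]
    · rw [e3, ← mul_assoc, hy, mul_assoc, mul_assoc, ← mul_assoc y, e3, ← mul_assoc, signC_sq,
        one_mul])
  have := orderOf_dvd_of_pow_eq_one (x := y) (n := 4) (by
    simpa only [pow_succ, pow_zero, one_mul, mul_assoc] using y2)
  rw [oy] at this
  omega

/-- a sign change of weight `w` is fused to the central involution -/
def PP (φ : Co0 →* G) (w : ℕ) : Prop :=
  ∃ (c : Finset GolayPt) (hc : IsCw c), c.card = w ∧ IsConj (φ negC) (φ (signC c hc))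

theorem pp_iff {c : Finset GolayPt} (hc : IsCw c) (h : c.card = 8 ∨ c.card = 12 ∨ c.card = 16) :
    IsConj (φ negC) (φ (signC c hc)) ↔ PP φ c.card :=
  ⟨fun e => ⟨c, hc, rfl, e⟩, fun ⟨_, hd, e, h1⟩ =>
    h1.trans (φ.map_isConj (conj_of_card hc hd e.symm h).symm)⟩

theorem not_sixteen (h : Ctx negC n φ) : ¬ PP φ 16 := fun hp => by
  have x16 : XX.card = 16 := by decide +kernel
  obtain ⟨g, hg⟩ := isConj_iff.1 ((pp_iff XX_cw (Or.inr (Or.inr x16))).2 (x16 ▸ hp))
  have h1 := h.map (MulAut.conj g)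
  obtain ⟨e, he⟩ := h1.mem_range h (by
    change _ * (g * φ negC * g⁻¹) = g * φ negC * g⁻¹ * _
    rw [hg, ← map_mul, ← negC_comm, map_mul])
  have h2 : ∀ k e', k * e * k⁻¹ = e' → ∃ ψ : Co0 →* G, Ctx negC n ψ ∧ ψ negC = φ tt ∧
      ψ e' = φ negC := by
    rintro k _ rfl
    have hk : MulAut.conj k⁻¹ negC = negC := by
      rw [MulAut.conj_apply, negC_comm, mul_inv_cancel_right]
    refine ⟨_, h1.comp _ hk, ?_, ?_⟩
    · exact (congrArg ((MulAut.conj g).toMonoidHom.comp φ) hk).trans hg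
    · refine Eq.trans (congrArg ((MulAut.conj g).toMonoidHom.comp φ) ?_) he
      simp [mul_assoc]
  obtain ⟨c, hc, h3, k, hk⟩ := exists_type (y := e)
    (h1.inj (by rw [map_mul, he, ← map_mul, negC_sq, map_one, map_one]))
    (fun e1 => negC_ne_one (h.inj (by rw [← he, e1, map_one, map_one])))
    (fun e1 => absurd (signC_inj (h.inj (hg.symm.trans (e1 ▸ he)))) (by decide +kernel))
  have h4 : ∀ d (hd : IsCw d), c.card = d.card → ∃ ψ : Co0 →* G, Ctx negC n ψ ∧ ψ negC = φ tt ∧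
      ψ (signC d hd) = φ negC := fun d hd e1 => by
    obtain ⟨l, hl⟩ := isConj_iff.1 (conj_of_card hc hd e1 h3)
    exact h2 (l * k) _ (by rw [← hl, ← hk]; group)
  rcases h3 with h3 | h3 | h3
  · obtain ⟨ψ, h5, h6, h7⟩ := h4 XXᶜ XX_cw.compl (by rw [Finset.card_compl, card_pt, x16, h3])
    exact not_sixteen_a h h5 h6 h7 (prC_tt _).symm
  · obtain ⟨ψ, h5, h6, h7⟩ := h4 c hc rfl
    exact not_sixteen_b h h5 h6 h3 h7
  · obtain ⟨ψ, h5, h6, h7⟩ := h4 XX XX_cw (h3.trans x16.symm)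
    exact not_sixteen_a h h5 h6 h7 rfl

theorem pp_step (h : Ctx negC n φ) {x y z : Finset GolayPt} (hx : IsCw x) (hy : IsCw y)
    (hz : IsCw z) (cx : IsConj (φ negC) (φ (signC x hx))) (cy : IsConj (φ negC) (φ (signC y hy)))
    (cz : z = ∅ ∨ IsConj (φ negC) (φ (signC z hz))) (h1 : symmDiff y z ≠ ∅)
    (h2 : symmDiff y z ≠ x) : ∃ w, (w = 8 ∨ w = 12 ∨ w = 16) ∧
      (IsConj (φ negC) (φ (signC _ (hy.symmDiff hz))) ↔ PP φ w) ∧
      (IsConj (φ negC) (φ (signC _ (hx.symmDiff (hy.symmDiff hz)))) ↔ PP φ (24 - w)) := by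
  obtain ⟨g, hg⟩ := isConj_iff.1 cx
  have h3 := h.map (MulAut.conj g)
  set ψ := (MulAut.conj g).toMonoidHom.comp φ with hψ
  have hg' : ψ negC = φ (signC x hx) := hg
  have h4 : ∀ c hc, IsConj (φ negC) (φ (signC c hc)) → φ (signC c hc) ∈ ψ.range := fun c hc e => by
    obtain ⟨l, hl⟩ := isConj_iff.1 e
    rw [← hl]
    refine h3.mem_range (h.map (MulAut.conj l)) ?_
    change l * φ negC * l⁻¹ * _ = _ * (l * φ negC * l⁻¹)
    rw [hg', hl, ← map_mul, signG_comm (signC_mem_signG _ _) (signC_mem_signG _ _), map_mul]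
  obtain ⟨e, he⟩ : φ (signC _ (hy.symmDiff hz)) ∈ ψ.range := by
    rw [← signC_mul _ _ hy hz, map_mul]
    refine mul_mem (h4 _ _ cy) (cz.elim ?_ (h4 _ _))
    rintro rfl
    rw [signC_empty, map_one]
    exact one_mem _
  obtain ⟨c, hc, h5, k, hk⟩ := exists_type (y := e)
    (h3.inj (by rw [map_mul, he, ← map_mul, signC_sq, map_one, map_one]))
    (fun e1 => h1 (signC_inj (h.inj (by rw [← he, e1, signC_empty, map_one, map_one]))))
    (fun e1 => h2 (signC_inj (h.inj (by rw [← he, e1, hg']))))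
  have h6 : ∀ a b, k * a * k⁻¹ = b → (IsConj (φ negC) (ψ a) ↔ IsConj (φ negC) (φ b)) := by
    rintro a _ rfl
    have : IsConj (φ (k * a * k⁻¹)) (ψ a) :=
      (φ.map_isConj (isConj_iff.2 ⟨k, rfl⟩)).symm.trans (isConj_iff.2 ⟨g, rfl⟩)
    exact ⟨fun e => e.trans this.symm, fun e => e.trans this⟩
  have h7 : cᶜ.card = 24 - c.card := by rw [Finset.card_compl, card_pt]
  refine ⟨c.card, h5, ?_, ?_⟩
  · rw [← he, h6 _ _ hk, pp_iff hc h5]
  · rw [← signC_mul _ _ hx (hy.symmDiff hz), map_mul, ← he, ← hg', ← map_mul,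
      h6 _ (signC _ hc.compl) (by rw [ct_compl hc, ← hk, ← mul_assoc, negC_comm]; group),
      pp_iff hc.compl (by omega), h7]

theorem not_pp (h : Ctx negC n φ) : ¬ PP φ 8 ∧ ¬ PP φ 12 := by
  have h16 := not_sixteen h
  have c : ∀ m ∈ [13062145, 4845570, 8245261, 9875698, 5210132, 3154402], IsCw (bits m) := by
    decide +kernel
  have cj : ∀ {w : ℕ} {d : Finset GolayPt} (hd : IsCw d), d.card = w → (w = 8 ∨ w = 12 ∨ w = 16) →
      (IsConj (φ negC) (φ (signC d hd)) ↔ PP φ w) := by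
    rintro _ d hd rfl h1
    exact pp_iff hd h1
  have a1 : PP φ 8 → PP φ 12 := fun p => by
    obtain ⟨w, hw, h1, h2⟩ := pp_step h (c 13062145 (by simp)) (c 4845570 (by simp)) isCw_empty
      ((cj _ (by decide +kernel) (by simp)).2 p) ((cj _ (by decide +kernel) (by simp)).2 p)
      (Or.inl rfl) (by decide +kernel) (by decide +kernel)
    rw [cj (w := 8) _ (by decide +kernel) (by simp)] at h1 h2
    rcases hw with rfl | rfl | rfl
    exacts [absurd (h2.1 p) h16, h1.1 p, absurd (h1.1 p) h16]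
  have a2 : PP φ 12 → PP φ 8 := fun p => by
    obtain ⟨w, hw, h1, h2⟩ := pp_step h (c 8245261 (by simp)) (c 9875698 (by simp)) isCw_empty
      ((cj _ (by decide +kernel) (by simp)).2 p) ((cj _ (by decide +kernel) (by simp)).2 p)
      (Or.inl rfl) (by decide +kernel) (by decide +kernel)
    rw [cj (w := 12) _ (by decide +kernel) (by simp)] at h1
    rw [cj (w := 16) _ (by decide +kernel) (by simp)] at h2
    rcases hw with rfl | rfl | rfl
    exacts [h1.1 p, absurd (h2.2 p) h16, absurd (h1.1 p) h16]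
  have a3 : ¬ PP φ 8 := fun p => by
    obtain ⟨w, hw, h1, h2⟩ := pp_step h (c 13062145 (by simp)) (c 5210132 (by simp))
      (c 3154402 (by simp)) ((cj _ (by decide +kernel) (by simp)).2 p)
      ((cj _ (by decide +kernel) (by simp)).2 p)
      (Or.inr ((cj _ (by decide +kernel) (by simp)).2 p)) (by decide +kernel) (by decide +kernel)
    rw [cj (w := 16) _ (by decide +kernel) (by simp)] at h1 h2
    rcases hw with rfl | rfl | rfl
    exacts [h16 (h1.2 p), h16 (h1.2 (a1 p)), h16 (h2.2 p)]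
  exact ⟨a3, fun p => a3 (a2 p)⟩

theorem isolated_negC (h : Ctx negC n φ) (g : G)
    (hc : g * φ negC * g⁻¹ * φ negC = φ negC * (g * φ negC * g⁻¹)) :
    g * φ negC * g⁻¹ = φ negC := by
  by_contra hne
  obtain ⟨e, he⟩ := h.mem_range (h.map (MulAut.conj g)) hc
  have he' : φ e = g * φ negC * g⁻¹ := he
  obtain ⟨c, hc, h5, k, hk⟩ := exists_type (y := e)
    (h.inj (by rw [map_mul, he, ← map_mul, negC_sq, map_one, map_one]))
    (fun e1 => negC_ne_one ((h.map (MulAut.conj g)).inj (by rw [← he, e1, map_one, map_one])))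
    (fun e1 => hne (by rw [← he', e1]))
  have p := (pp_iff (φ := φ) hc h5).1
    ((isConj_iff.2 ⟨g, he'.symm⟩).trans (φ.map_isConj (isConj_iff.2 ⟨k, hk⟩)))
  rcases h5 with e | e | e <;> rw [e] at p
  exacts [(not_pp h).1 p, (not_pp h).2 p, not_sixteen h p]

end Cfsg.Agent.STD1
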